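import Groth.Prelude.Def_CartDual
import Groth.Prelude.Def_CartDual2
import Mathlib

/-!
# Cartier dual: transposes, points and group-like elements
-/

set_option autoImplicit false

universe u v w

namespace Groth.Agent.CartDualLib

open scoped TensorProduct
open WithConv

section Deriv

variable {R : Type u} [CommRing R] {A : Type v} [CommRing A] [Bialgebra R A] [Module.Finite R A] [Module.Projective R A]

theorem comul_of_derivation (d : CartDual.D R A)
    (hd : ∀ x y : A, d (x * y) = Coalgebra.counit (R := R) x * d y + Coalgebra.counit (R := R) y * d x) :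
    Coalgebra.comul (R := R) d = d ⊗ₜ[R] (1 : CartDual.D R A) + (1 : CartDual.D R A) ⊗ₜ[R] d := by
  apply (CartDual.ev₂ R A).injective
  refine TensorProduct.ext' fun a b => ?_
  rw [CartDual.ev₂_coalgebra_comul_tmul, hd, map_add, LinearMap.add_apply, CartDual.ev₂_tmul, CartDual.ev₂_tmul,
    show (1 : CartDual.D R A) a = Coalgebra.counit a from rfl, show (1 : CartDual.D R A) b = Coalgebra.counit b from rfl]
  ring

end Deriv

section Transpose

variable {R : Type u} [CommRing R] {A : Type v} [Ring A] [Bialgebra R A] [Module.Finite R A] [Module.Projective R A]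
  {B : Type w} [Ring B] [Bialgebra R B] [Module.Finite R B] [Module.Projective R B]

theorem bijective_eval : Function.Bijective (CartDual.eval R A) := by
  have h := Module.bijective_dual_eval R A
  refine ⟨fun a a' e => h.1 (LinearMap.ext fun x => ?_), fun z => ?_⟩
  · exact congrArg (fun f : CartDual.D R (CartDual.D R A) => f (toConv x)) e
  · obtain ⟨a, ha⟩ := h.2 (z.ofConv ∘ₗ (CartDual.toDual R A).symm.toLinearMap)
    refine ⟨a, WithConv.ofConv_injective (LinearMap.ext fun x => ?_)⟩
    exact LinearMap.congr_fun ha x.ofConv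

set_option backward.isDefEq.respectTransparency false in
theorem bijective_transpose : Function.Bijective (fun f : A →ₐc[R] B => CartDual.transpose R f) := by
  refine ⟨fun f g h => BialgHom.ext fun a => ?_, fun g => ?_⟩
  · refine (bijective_eval (R := R) (A := B)).1 (WithConv.ofConv_injective (LinearMap.ext fun y => ?_))
    exact congrArg (fun φ : CartDual.D R B →ₐc[R] CartDual.D R A => φ y a) h
  · let eB : B ≃ₐc[R] CartDual.D R (CartDual.D R B) := BialgEquiv.ofBijective (R := R) (A := B) (B := CartDual.D R (CartDual.D R B)) (CartDual.eval R B) (bijective_eval (R := R) (A := B))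
    refine ⟨(eB.symm : _ →ₐc[R] B).comp ((CartDual.transpose R g).comp (CartDual.eval R A)),
      BialgHom.ext fun y => WithConv.ofConv_injective (LinearMap.ext fun a => ?_)⟩
    let z := CartDual.transpose R g (CartDual.eval R A a)
    have hz : CartDual.eval R B (eB.symm z) = z := eB.apply_symm_apply z
    show y (eB.symm z) = (g y) a
    have h2 := congrArg (fun f : CartDual.D R (CartDual.D R B) => f y) hz
    exact h2

end Transpose

section Points

variable {k : Type u} [Field k] {A : Type v} [CommRing A] [HopfAlgebra k A] [Coalgebra.IsCocomm k A]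
  [FiniteDimensional k A] {R : Type w} [CommRing R] [Algebra k R]

/-- Contraction with a linear form. -/
noncomputable def φ (x : CartDual.D k A) : R ⊗[k] A →ₗ[R] R :=
  (TensorProduct.AlgebraTensorModule.rid k R R).toLinearMap ∘ₗ x.ofConv.baseChange R

omit [Coalgebra.IsCocomm k A] [FiniteDimensional k A] in
@[simp] theorem φ_tmul (x : CartDual.D k A) (r : R) (a : A) : φ x (r ⊗ₜ a) = x a • r := by
  simp [φ, CartDual.coe_apply]

omit [Coalgebra.IsCocomm k A] [FiniteDimensional k A] in
theorem φ_eq (x : CartDual.D k A) (w : R ⊗[k] A) :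
    φ x w = TensorProduct.rid k R (((CartDual.toDual k A x).lTensor R) w) := by
  induction w using TensorProduct.induction_on with
  | zero => simp
  | tmul r a => simp [CartDual.coe_apply]
  | add y z hy hz => simp only [map_add, hy, hz]

/-- Contraction as a linear map in the linear form. -/
noncomputable def Θ (w : R ⊗[k] A) : CartDual.D k A →ₗ[k] R where
  toFun x := φ x w
  map_add' x y := by
    induction w using TensorProduct.induction_on with
    | zero => simp
    | tmul r a => simp [add_smul, CartDual.coe_apply]
    | add a b ha hb => simp only [map_add, ha, hb]; abel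
  map_smul' c x := by
    induction w using TensorProduct.induction_on with
    | zero => simp
    | tmul r a => simp [smul_smul, CartDual.coe_apply]
    | add a b ha hb => simp only [map_add, smul_add, ha, hb, RingHom.id_apply]

omit [Coalgebra.IsCocomm k A] in
theorem bijective_Θ : Function.Bijective (Θ (k := k) (A := A) (R := R)) := by
  let b := Module.finBasis k A
  refine Function.bijective_iff_has_inverse.2 ⟨fun f => ∑ i, f (toConv (b.coord i)) ⊗ₜ[k] b i, fun w => ?_, fun f => ?_⟩
  · show ∑ i, φ (toConv (b.coord i)) w ⊗ₜ[k] b i = w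
    induction w using TensorProduct.induction_on with
    | zero => simp
    | tmul r a =>
      conv_rhs => rw [← b.sum_repr a, TensorProduct.tmul_sum]
      refine Finset.sum_congr rfl fun i _ => ?_
      rw [φ_tmul, TensorProduct.smul_tmul]
      rfl
    | add y z hy hz => simp only [map_add, TensorProduct.add_tmul, Finset.sum_add_distrib, hy, hz]
  · refine LinearMap.ext fun x => ?_
    show φ x _ = f x
    rw [map_sum]
    simp only [φ_tmul]
    simp only [← map_smul, ← map_sum]
    congr 1
    apply WithConv.ofConv_injective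
    refine b.ext fun j => ?_
    simp [CartDual.coe_apply, WithConv.ofConv_sum, Finsupp.single_apply]

omit [Coalgebra.IsCocomm k A] in
theorem Θ_one (x : CartDual.D k A) : Θ (1 : R ⊗[k] A) x = algebraMap k R (Coalgebra.counit x) := by
  show φ x (1 ⊗ₜ 1) = _
  rw [φ_tmul, CartDual.coalgebra_counit_apply, Algebra.algebraMap_eq_smul_one]

omit [Coalgebra.IsCocomm k A] in
theorem Θ_mul (w w' : R ⊗[k] A) : toConv (Θ (w * w')) = toConv (Θ w) * toConv (Θ w') := by
  have key : ∀ (r r' : R) (a a' : A) (y : CartDual.D k A ⊗[k] CartDual.D k A),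
      LinearMap.mul' k R (TensorProduct.map (Θ (r ⊗ₜ[k] a)) (Θ (r' ⊗ₜ[k] a')) y) =
        CartDual.ev₂ k A y (a ⊗ₜ a') • (r * r') := by
    intro r r' a a' y
    induction y using TensorProduct.induction_on with
    | zero => simp
    | tmul x x' => simp [Θ, smul_smul, mul_comm]
    | add y z hy hz => simp only [map_add, LinearMap.add_apply, add_smul, hy, hz]
  apply WithConv.ofConv_injective
  refine LinearMap.ext fun x => ?_
  rw [LinearMap.convMul_apply]
  show φ x (w * w') = _
  induction w using TensorProduct.induction_on with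
  | zero =>
    simp only [zero_mul, map_zero]
    rw [show Θ (k := k) (A := A) (R := R) 0 = 0 from LinearMap.ext fun x => map_zero (φ x), TensorProduct.map_zero_left]
    simp
  | add y z hy hz =>
    rw [show Θ (y + z) = Θ y + Θ z from LinearMap.ext fun x => map_add (φ x) y z]
    simp only [add_mul, map_add, TensorProduct.map_add_left, LinearMap.add_apply, hy, hz]
  | tmul r a =>
    induction w' using TensorProduct.induction_on with
    | zero =>
      simp only [mul_zero, map_zero]
      rw [show Θ (k := k) (A := A) (R := R) 0 = 0 from LinearMap.ext fun x => map_zero (φ x), TensorProduct.map_zero_right]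
      simp
    | add y z hy hz =>
      rw [show Θ (y + z) = Θ y + Θ z from LinearMap.ext fun x => map_add (φ x) y z]
      simp only [mul_add, map_add, TensorProduct.map_add_right, LinearMap.add_apply, hy, hz]
    | tmul r' a' =>
      rw [Algebra.TensorProduct.tmul_mul_tmul, φ_tmul]
      show _ = LinearMap.mul' k R (TensorProduct.map (Θ (r ⊗ₜ[k] a)) (Θ (r' ⊗ₜ[k] a')) _)
      rw [key, CartDual.ev₂_coalgebra_comul_tmul]

omit [Coalgebra.IsCocomm k A] [FiniteDimensional k A] in
theorem φ_mul (x y : CartDual.D k A) (w : R ⊗[k] A) :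
    φ (x * y) w = LinearMap.mul' R R (TensorProduct.map (φ x) (φ y) (Coalgebra.comul (R := R) w)) := by
  induction w using TensorProduct.induction_on with
  | zero => simp
  | add a b ha hb => simp only [map_add, ha, hb]
  | tmul r a =>
    let 𝓡 := Coalgebra.Repr.arbitrary k a
    have e : Coalgebra.comul (R := R) (r ⊗ₜ[k] a) =
        ∑ i ∈ 𝓡.index, (r ⊗ₜ[k] 𝓡.left i) ⊗ₜ[R] ((1 : R) ⊗ₜ[k] 𝓡.right i) := by
      rw [TensorProduct.comul_tmul, CommSemiring.comul_apply, ← 𝓡.eq, TensorProduct.tmul_sum, map_sum]
      refine Finset.sum_congr rfl fun i _ => ?_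
      rw [TensorProduct.AlgebraTensorModule.tensorTensorTensorComm_tmul,
        show r ⊗ₜ[k] 𝓡.left i = r • ((1 : R) ⊗ₜ[k] 𝓡.left i) by rw [TensorProduct.smul_tmul', smul_eq_mul, _root_.mul_one],
        show r ⊗ₜ[k] 𝓡.right i = r • ((1 : R) ⊗ₜ[k] 𝓡.right i) by rw [TensorProduct.smul_tmul', smul_eq_mul, _root_.mul_one],
        TensorProduct.smul_tmul]
    rw [e, map_sum, map_sum, φ_tmul, 𝓡.convMul_apply, Finset.sum_smul]
    refine Finset.sum_congr rfl fun i _ => ?_
    rw [TensorProduct.map_tmul, LinearMap.mul'_apply, φ_tmul, φ_tmul, smul_mul_smul_comm, _root_.mul_one]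

omit [Coalgebra.IsCocomm k A] [FiniteDimensional k A] in
theorem φ_one (w : R ⊗[k] A) : φ (1 : CartDual.D k A) w = Coalgebra.counit (R := R) w := by
  induction w using TensorProduct.induction_on with
  | zero => simp
  | add a b ha hb => simp only [map_add, ha, hb]
  | tmul r a =>
    rw [φ_tmul, TensorProduct.counit_tmul, CommSemiring.counit_apply]
    rfl

omit [Coalgebra.IsCocomm k A] in
theorem tensor_ext {z z' : (R ⊗[k] A) ⊗[R] (R ⊗[k] A)}
    (h : ∀ x y : CartDual.D k A,
      LinearMap.mul' R R (TensorProduct.map (φ x) (φ y) z) = LinearMap.mul' R R (TensorProduct.map (φ x) (φ y) z')) :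
    z = z' := by
  let b := Module.finBasis k A
  let B := Algebra.TensorProduct.basis R b
  let c : Fin (Module.finrank k A) × Fin (Module.finrank k A) → ((R ⊗[k] A) ⊗[R] (R ⊗[k] A) →ₗ[R] R) := fun ij =>
    LinearMap.mul' R R ∘ₗ TensorProduct.map (φ (toConv (b.coord ij.1))) (φ (toConv (b.coord ij.2)))
  have key : (∑ ij, (c ij).smulRight ((B.tensorProduct B) ij)) = LinearMap.id := by
    refine (B.tensorProduct B).ext fun ij => ?_
    rw [LinearMap.sum_apply, Finset.sum_eq_single ij]
    · simp [c, B, Module.Basis.tensorProduct_apply', CartDual.coe_apply]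
    · intro ij' _ hne
      rcases eq_or_ne ij'.1 ij.1 with h1 | h1
      · have h2 : ij'.2 ≠ ij.2 := fun h2 => hne (Prod.ext h1 h2)
        simp [c, B, Module.Basis.tensorProduct_apply', CartDual.coe_apply, Finsupp.single_apply, h2.symm]
      · simp [c, B, Module.Basis.tensorProduct_apply', CartDual.coe_apply, Finsupp.single_apply, h1.symm]
    · simp
  rw [← LinearMap.id_apply (R := R) z, ← LinearMap.id_apply (R := R) z', ← key, LinearMap.sum_apply, LinearMap.sum_apply]
  refine Finset.sum_congr rfl fun ij _ => ?_
  simp only [LinearMap.smulRight_apply, c, LinearMap.coe_comp, Function.comp_apply, h]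

/-- Group-like elements of `R ⊗ A` are the `R`-points of the Cartier dual. -/
theorem exists_mulEquiv_groupLike :
    ∃ e : GroupLike R (R ⊗[k] A) ≃* WithConv (CartDual.D k A →ₐ[k] R),
      ∀ (g : GroupLike R (R ⊗[k] A)) (x : CartDual.D k A),
        (e g).ofConv x = TensorProduct.rid k R (((CartDual.toDual k A x).lTensor R) g.val) := by
  have h1 : ∀ g : GroupLike R (R ⊗[k] A), Θ g.val 1 = 1 := fun g =>
    (φ_one g.val).trans g.isGroupLikeElem_val.counit_eq_one
  have h2 : ∀ (g : GroupLike R (R ⊗[k] A)) (x y : CartDual.D k A), Θ g.val (x * y) = Θ g.val x * Θ g.val y := by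
    intro g x y
    show φ (x * y) g.val = φ x g.val * φ y g.val
    rw [φ_mul, g.isGroupLikeElem_val.comul_eq_tmul_self, TensorProduct.map_tmul, LinearMap.mul'_apply]
  let f : GroupLike R (R ⊗[k] A) → WithConv (CartDual.D k A →ₐ[k] R) := fun g =>
    toConv (AlgHom.ofLinearMap (Θ g.val) (h1 g) (h2 g))
  have hf : Function.Bijective f := by
    refine ⟨fun g g' e => GroupLike.val_injective (bijective_Θ.1 (LinearMap.ext fun x => ?_)), fun F => ?_⟩
    · exact congrArg (fun F : WithConv (CartDual.D k A →ₐ[k] R) => F.ofConv x) e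
    · obtain ⟨w, hw⟩ := bijective_Θ.2 F.ofConv.toLinearMap
      have hw' : ∀ x, φ x w = F.ofConv x := fun x => LinearMap.congr_fun hw x
      have hg : IsGroupLikeElem R w := by
        refine ⟨?_, tensor_ext fun x y => ?_⟩
        · rw [← φ_one, hw', map_one]
        · rw [← φ_mul, TensorProduct.map_tmul, LinearMap.mul'_apply, hw', hw', hw', map_mul]
      exact ⟨⟨w, hg⟩, WithConv.ofConv_injective (AlgHom.ext fun x => hw' x)⟩
  have hmul : ∀ g g', f (g * g') = f g * f g' := by
    intro g g'
    apply WithConv.ofConv_injective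
    apply AlgHom.toLinearMap_injective
    apply WithConv.toConv_injective
    rw [AlgHom.toLinearMap_convMul]
    exact Θ_mul g.val g'.val
  exact ⟨MulEquiv.ofBijective (MulHom.mk f hmul) hf, fun g x => φ_eq x g.val⟩

end Points

end Groth.Agent.CartDualLib
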